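import Groth.Agent.SubgroupWeil.Generate
import Groth.Agent.SmoothWeil.Inf
import Groth.Agent.DiagAction.Local
import Groth.Agent.DiagAction.CentralSubgroup
import Groth.Agent.CentralDescent.Points

/-!
When does a monomorphic subgroup contain all of a smooth group with connected fibres, near the unit section.
-/

universe u

open CategoryTheory Limits MonoidalCategory CartesianMonoidalCategory MonObj GrpObj AlgebraicGeometry
open Groth.Agent.EssFree Groth.Agent.DiagAction

set_option backward.isDefEq.respectTransparency false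
set_option linter.style.haveILetI false

noncomputable section

namespace Groth.Agent.SubgroupWeil

variable {S : Scheme.{u}} {X Y : Over S} [GrpObj X]

theorem mulClosed_bc {S' : Scheme.{u}} (v : S' ⟶ S) (i : Y ⟶ X) (h : MulClosed i) :
    MulClosed ((Over.pullback v).map i) := by
  intro T a b
  obtain ⟨c, hc⟩ := h _ (downP v a) (downP v b)
  refine ⟨upP v c, ?_⟩
  rw [← upP_downP v (upP v c ≫ (Over.pullback v).map i), ← upP_downP v ((a ≫ (Over.pullback v).map i) * _),
    downP_mul, downP_comp_map, downP_comp_map, downP_comp_map, downP_upP, hc]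

theorem one_bc_left {S' : Scheme.{u}} (v : S' ⟶ S) :
    (η[Red.bc v X]).left ≫ pullback.fst X.hom v = v ≫ (η[X]).left := by
  have h := congrArg Over.Hom.left (downP_one v (Y := X) (Z := 𝟙_ (Over S')))
  rw [CentralDescent.downP_left] at h
  have h1 : (1 : 𝟙_ (Over S') ⟶ Red.bc v X) = η[Red.bc v X] := by
    simp [Hom.one_def]
  rw [h1] at h
  refine h.trans ?_
  rw [Hom.one_def, Over.comp_left]
  congr 1

theorem full_iff_pow [Smooth X.hom] [GeometricallyConnected X.hom] (i : Y ⟶ X) [Mono i.left] [QuasiCompact i.left]
    (hmul : MulClosed i) {C E B : Type u} [CommRing C] [CommRing E] [CommRing B] [Algebra C E] [Algebra C B]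
    [Algebra.Smooth C E] (φ : E →ₐ[C] B) (hφ : Function.Surjective φ) (hfg : (RingHom.ker φ).FG)
    (v : Spec (CommRingCat.of C) ⟶ S)
    (π : Spec (CommRingCat.of E) ⟶ (Red.bc v X).left) [Etale π]
    (hπ : π ≫ (Red.bc v X).hom = Spec.map (CommRingCat.ofHom (algebraMap C E)))
    (ω : Spec (CommRingCat.of B) ⟶ (Red.bc v Y).left) [IsOpenImmersion ω]
    (hω : ω ≫ ((Over.pullback v).map i).left = Spec.map (CommRingCat.ofHom φ.toRingHom) ≫ π)
    (σ : B →ₐ[C] C)
    (hσ : Spec.map (CommRingCat.ofHom (σ.comp φ).toRingHom) ≫ π ≫ pullback.fst X.hom v = v ≫ (η[X]).left) :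
    Full X.hom i.left v ↔ ∀ x ∈ RingHom.ker φ, ∀ m, x ∈ RingHom.ker (σ.comp φ) ^ m := by
  let iv := ((Over.pullback v).map i).left
  have hiv1 : iv ≫ pullback.fst X.hom v = pullback.fst Y.hom v ≫ i.left := by simp [iv]
  have hiv2 : iv ≫ pullback.snd X.hom v = pullback.snd Y.hom v := by simp [iv]
  haveI : Mono iv := ⟨fun a b h => by
    apply pullback.hom_ext
    · rw [← cancel_mono i.left, Category.assoc, Category.assoc, ← hiv1, reassoc_of% h]
    · rw [← hiv2, reassoc_of% h]⟩
  constructor
  · rintro ⟨l, hl⟩ x hx m
    haveI : IsIso iv := by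
      refine ⟨pullback.lift l (pullback.snd _ _) ?_, ?_, ?_⟩
      · rw [← pullback.condition, ← Over.w i, reassoc_of% hl]
      · rw [← cancel_mono iv, Category.assoc, Category.id_comp]
        apply pullback.hom_ext
        · simp only [Category.assoc]
          rw [hiv1, pullback.lift_fst_assoc, hl, hiv1]
        · simp only [Category.assoc]
          rw [hiv2, pullback.lift_snd, hiv2]
      · apply pullback.hom_ext
        · rw [Category.assoc, hiv1, pullback.lift_fst_assoc, hl, Category.id_comp]
        · rw [Category.assoc, hiv2, pullback.lift_snd, Category.id_comp]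
    haveI : Etale (Spec.map (CommRingCat.ofHom φ.toRingHom)) := by
      refine MorphismProperty.of_postcomp (W := @Etale) (W' := @Etale) _ π inferInstance ?_
      rw [← hω]
      exact inferInstanceAs (Etale (ω ≫ iv))
    letI := φ.toRingHom.toAlgebra
    haveI : Module.Flat E B := RingHom.flat_algebraMap_iff.mp
      ((HasRingHomProperty.Spec_iff (P := @Flat)).mp (inferInstance : Flat (Spec.map (CommRingCat.ofHom φ.toRingHom))))
    haveI : (RingHom.ker φ).Pure := Module.Flat.of_linearEquiv
      ((Ideal.quotientKerAlgEquivOfSurjective (f := Algebra.ofId E B) hφ).toLinearEquiv)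
    have hidem := Ideal.isIdempotentElem_of_pure (RingHom.ker φ)
    have hle : RingHom.ker φ ≤ RingHom.ker (σ.comp φ) := fun y hy => by simp [RingHom.mem_ker.mp hy]
    by_cases hm : m = 0
    · subst hm; simp
    refine Ideal.pow_right_mono hle m ?_
    obtain ⟨k, rfl⟩ := Nat.exists_eq_succ_of_ne_zero hm
    rwa [hidem.pow_succ_eq k]
  · intro h
    obtain ⟨u, hu1, hu0⟩ := SmoothWeil.exists_ann_unit_fg (σ.comp φ) (RingHom.ker φ) hfg h
    let loc : Spec (CommRingCat.of (Localization.Away u)) ⟶ Spec (CommRingCat.of E) :=
      Spec.map (CommRingCat.ofHom (algebraMap E (Localization.Away u)))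
    have hker : RingHom.ker φ.toRingHom ≤ RingHom.ker (algebraMap E (Localization.Away u)) := fun x hx => by
      refine (IsLocalization.map_eq_zero_iff (Submonoid.powers u) _ x).mpr ⟨⟨u, 1, pow_one u⟩, hu0 x hx⟩
    let k : B →+* Localization.Away u :=
      RingHom.liftOfSurjective φ.toRingHom hφ ⟨algebraMap E (Localization.Away u), hker⟩
    have hk : k.comp φ.toRingHom = algebraMap E (Localization.Away u) :=
      RingHom.liftOfRightInverse_comp _ _ _ _
    let Q : Over (Spec (CommRingCat.of C)) := Over.mk ((loc ≫ π) ≫ (Red.bc v X).hom)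
    let α : Q ⟶ Red.bc v X := Over.homMk (loc ≫ π)
    haveI : Etale (loc ≫ π) := by
      haveI : IsOpenImmersion loc :=
        inferInstanceAs (IsOpenImmersion (Spec.map (CommRingCat.ofHom (algebraMap E (Localization.Away u)))))
      infer_instance
    haveI : Flat α.left := (inferInstance : Flat (loc ≫ π))
    haveI : Smooth (Red.bc v X).hom := inferInstanceAs (Smooth (pullback.snd X.hom v))
    haveI : GeometricallyConnected (Red.bc v X).hom := inferInstanceAs (GeometricallyConnected (pullback.snd X.hom v))
    haveI : QuasiCompact iv := by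
      have hsq : IsPullback (pullback.fst Y.hom v) iv i.left (pullback.fst X.hom v) := by
        refine (IsPullback.of_bot ?_ hiv1.symm (IsPullback.of_hasPullback X.hom v))
        rw [hiv2, Over.w i]
        exact IsPullback.of_hasPullback Y.hom v
      exact MorphismProperty.of_isPullback (P := @QuasiCompact) hsq inferInstance
    let ξ : Q ⟶ Red.bc v Y := Over.homMk (Spec.map (CommRingCat.ofHom k) ≫ ω) (by
      show _ = (loc ≫ π) ≫ (Red.bc v X).hom
      rw [Category.assoc, show (Red.bc v Y).hom = iv ≫ (Red.bc v X).hom from hiv2.symm, reassoc_of% hω,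
        ← Category.assoc, ← Spec.map_comp, ← CommRingCat.ofHom_comp, hk, Category.assoc])
    have hξ : ξ ≫ (Over.pullback v).map i = α := Over.OverMorphism.ext (by
      show (Spec.map (CommRingCat.ofHom k) ≫ ω) ≫ iv = loc ≫ π
      rw [Category.assoc, hω, ← Category.assoc, ← Spec.map_comp, ← CommRingCat.ofHom_comp, hk])
    have hone : ∀ p, (η[Red.bc v X]).left p ∈ Set.range α.left := by
      let τ : Localization.Away u →+* C :=
        IsLocalization.Away.lift (g := (σ.comp φ).toRingHom) u (by
          show IsUnit ((σ.comp φ) u)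
          rw [hu1]; exact isUnit_one)
      have hτ : τ.comp (algebraMap E (Localization.Away u)) = (σ.comp φ).toRingHom := IsLocalization.Away.lift_comp ..
      have he : Spec.map (CommRingCat.ofHom τ) ≫ α.left = (η[Red.bc v X]).left := by
        show Spec.map (CommRingCat.ofHom τ) ≫ loc ≫ π = _
        rw [← Category.assoc, ← Spec.map_comp, ← CommRingCat.ofHom_comp, hτ]
        apply pullback.hom_ext
        · rw [Category.assoc, hσ]
          exact (one_bc_left v).symm
        · rw [Category.assoc, show π ≫ pullback.snd X.hom v = _ from hπ, ← Spec.map_comp, ← CommRingCat.ofHom_comp,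
            show (σ.comp φ).toRingHom.comp (algebraMap C E) = RingHom.id C from (σ.comp φ).comp_algebraMap]
          refine (Spec.map_id _).trans ?_
          exact (Over.w η[Red.bc v X]).symm
      intro p
      exact ⟨_, congrArg (fun ψ => ψ p) he⟩
    obtain ⟨l, hl⟩ := exists_section_of_nhd ((Over.pullback v).map i) (mulClosed_bc v i hmul) α
      (loc ≫ π).isOpenMap.isOpen_range hone ξ hξ
    refine ⟨l ≫ pullback.fst Y.hom v, ?_⟩
    rw [Category.assoc, ← hiv1, reassoc_of% hl]

end Groth.Agent.SubgroupWeil
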