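import Groth.Agent.SubgroupWeil.Main
import Groth.Agent.EssFree.Apps
import Groth.Agent.AbRigid.Basic

/-!
Transporters, centralizers and normalizers of smooth subgroups with connected fibres.
-/

universe u

open CategoryTheory Limits MonoidalCategory CartesianMonoidalCategory MonObj GrpObj AlgebraicGeometry
open Groth.Agent.EssFree Groth.Agent.DiagAction

set_option backward.isDefEq.respectTransparency false
set_option linter.style.haveILetI false

noncomputable section

namespace Groth.Agent.SubgroupWeil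

variable {S : Scheme.{u}}

theorem geometricallyConnected_of_fibres (H : Over S) [GrpObj H]
    (h : ∀ s : S, ConnectedSpace ↥(pullback H.hom (S.fromSpecResidueField s))) : GeometricallyConnected H.hom :=
  AbRigid.geometricallyConnected_of_section H.hom (η[H]).left (Over.w η[H]) h

theorem geometricallyConnected_of_isConnected (H : Over S) [GrpObj H]
    (h : ∀ s : S, _root_.IsConnected (H.hom.base ⁻¹' {s})) : GeometricallyConnected H.hom :=
  geometricallyConnected_of_fibres H fun s => by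
    haveI : ConnectedSpace (H.hom.base ⁻¹' {s} : Set H.left) := isConnected_iff_connectedSpace.mp (h s)
    exact (H.hom.fiberHomeo s).symm.surjective.connectedSpace (H.hom.fiberHomeo s).symm.continuous

variable {G H K W : Over S} [GrpObj H]

/-- the points of `G` at which all of `H` is sent into `K` -/
theorem exists_closed_landLocus [Smooth H.hom] [GeometricallyConnected H.hom] (Φ : H ⊗ G ⟶ W) (k : K ⟶ W)
    [Mono k.left] [QuasiCompact k.left] [LocallyOfFinitePresentation k.left]
    (hone : ∀ (T : Over S) (g : T ⟶ G), ∃ c : T ⟶ K, c ≫ k = lift 1 g ≫ Φ)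
    (hmul : ∀ (T : Over S) (g : T ⟶ G) (a b : T ⟶ H), (∃ c : T ⟶ K, c ≫ k = lift a g ≫ Φ) →
      (∃ c : T ⟶ K, c ≫ k = lift b g ≫ Φ) → ∃ c : T ⟶ K, c ≫ k = lift (a * b) g ≫ Φ) :
    ∃ (T : Over S) (t : T ⟶ G), IsClosedImmersion t.left ∧ LocallyOfFinitePresentation t.left ∧
      ∀ (S' : Over S) (g : S' ⟶ G), (∃ z : S' ⟶ T, z ≫ t = g) ↔
        ∀ (S'' : Over S) (s : S'' ⟶ S') (x : S'' ⟶ H), ∃ x' : S'' ⟶ K, x' ≫ k = lift x (s ≫ g) ≫ Φ := by
  let j := pullback.snd k.left Φ.left
  let X : Over G.left := Red.bc G.hom H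
  let Y : Over G.left := Over.mk (j ≫ pullback.snd H.hom G.hom)
  let i : Y ⟶ X := Over.homMk j
  haveI : Smooth X.hom := inferInstanceAs (Smooth (pullback.snd H.hom G.hom))
  haveI : GeometricallyConnected X.hom := inferInstanceAs (GeometricallyConnected (pullback.snd H.hom G.hom))
  haveI : Mono i.left := inferInstanceAs (Mono (pullback.snd k.left Φ.left))
  haveI : QuasiCompact i.left := inferInstanceAs (QuasiCompact (pullback.snd k.left Φ.left))
  haveI : LocallyOfFinitePresentation i.left :=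
    inferInstanceAs (LocallyOfFinitePresentation (pullback.snd k.left Φ.left))
  let toG : ∀ T : Over G.left, (Over.map G.hom).obj T ⟶ G := fun T => Over.homMk T.hom rfl
  have hpair : ∀ (T : Over G.left) (p : T ⟶ X), (lift (downP G.hom p) (toG T)).left = p.left := by
    intro T p
    apply pullback.hom_ext
    · show (lift (downP G.hom p) (toG T) ≫ fst H G).left = _
      rw [lift_fst, CentralDescent.downP_left]
    · show (lift (downP G.hom p) (toG T) ≫ snd H G).left = _
      rw [lift_snd]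
      exact (Over.w p).symm
  have hfac : ∀ (T : Over G.left) (p : T ⟶ X), (∃ c : (Over.map G.hom).obj T ⟶ K,
      c ≫ k = lift (downP G.hom p) (toG T) ≫ Φ) ↔ ∃ c : T ⟶ Y, c ≫ i = p := by
    intro T p
    constructor
    · rintro ⟨c, hc⟩
      have hc' := congrArg Over.Hom.left hc
      rw [Over.comp_left, Over.comp_left, hpair] at hc'
      refine ⟨Over.homMk (pullback.lift c.left p.left hc') ?_, Over.OverMorphism.ext (pullback.lift_snd _ _ _)⟩
      show pullback.lift c.left p.left hc' ≫ j ≫ X.hom = T.hom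
      rw [pullback.lift_snd_assoc, Over.w p]
    · rintro ⟨c, rfl⟩
      have h : (c.left ≫ pullback.fst k.left Φ.left) ≫ k.left = (c ≫ i).left ≫ Φ.left := by
        rw [Category.assoc, pullback.condition, Over.comp_left, Category.assoc]
        rfl
      refine ⟨Over.homMk (c.left ≫ pullback.fst k.left Φ.left) ?_, Over.OverMorphism.ext ?_⟩
      · show _ = T.hom ≫ G.hom
        rw [← Over.w k, ← Category.assoc, h, Category.assoc, Over.w Φ, ← Over.w (c ≫ i), Category.assoc]
        show _ ≫ pullback.fst H.hom G.hom ≫ H.hom = _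
        rw [pullback.condition]
        rfl
      · exact h.trans (congrArg (· ≫ Φ.left) (hpair T (c ≫ i)).symm)
  obtain ⟨c, hc⟩ := (hfac _ (1 : 𝟙_ (Over G.left) ⟶ X)).mp (by rw [downP_one]; exact hone _ _)
  have hmulX : MulClosed i := fun T a b => by
    refine (hfac T _).mp ?_
    rw [downP_mul]
    exact hmul _ _ _ _ ((hfac T _).mpr ⟨a, rfl⟩) ((hfac T _).mpr ⟨b, rfl⟩)
  obtain ⟨T, t, ht, hfp, hT⟩ := exists_closed_full_subgroup i c (hc.trans (by simp [Hom.one_def])) hmulX
  obtain ⟨T', t', ht', hfp', hT'⟩ := exists_closed_factLocus_of (Q := True) Φ k ⟨T, t, ht, fun _ => hfp, fun g => hT g⟩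
  exact ⟨T', t', ht', hfp' trivial, hT'⟩

variable [GrpObj G] [Smooth H.hom] [GeometricallyConnected H.hom]

/-- the transporter of a smooth subgroup with connected fibres into a subgroup -/
theorem exists_closed_transporter_subgroup (u : H ⟶ G) [IsMonHom u] [GrpObj K] (j : K ⟶ G) [IsMonHom j] [Mono j.left]
    [QuasiCompact j.left] [LocallyOfFinitePresentation j.left] :
    ∃ (T : Over S) (t : T ⟶ G), IsClosedImmersion t.left ∧ LocallyOfFinitePresentation t.left ∧
      ∀ (X : Over S) (g : X ⟶ G), (∃ z : X ⟶ T, z ≫ t = g) ↔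
        ∀ (X' : Over S) (x : X' ⟶ X) (h : X' ⟶ H), ∃ κ : X' ⟶ K, (x ≫ g) * (h ≫ u) * (x ≫ g)⁻¹ = κ ≫ j := by
  obtain ⟨T, t, ht, hfp, hT⟩ := exists_closed_landLocus (conjMap u) j
    (fun T g => ⟨1, by rw [lift_conjMap, MonObj.one_comp, MonObj.one_comp, _root_.mul_one, mul_inv_cancel]⟩)
    (fun T g a b ⟨c, hc⟩ ⟨d, hd⟩ => ⟨c * d, by
      rw [lift_conjMap] at hc hd ⊢
      rw [MonObj.mul_comp, hc, hd, MonObj.mul_comp]
      group⟩)
  refine ⟨T, t, ht, hfp, fun X g => (hT X g).trans ?_⟩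
  simp only [lift_conjMap, eq_comm]

/-- the transporter by inverse conjugation -/
theorem exists_closed_transporter_inv (u : H ⟶ G) [IsMonHom u] [GrpObj K] (j : K ⟶ G) [IsMonHom j] [Mono j.left]
    [QuasiCompact j.left] [LocallyOfFinitePresentation j.left] :
    ∃ (T : Over S) (t : T ⟶ G), IsClosedImmersion t.left ∧ LocallyOfFinitePresentation t.left ∧
      ∀ (X : Over S) (g : X ⟶ G), (∃ z : X ⟶ T, z ≫ t = g) ↔
        ∀ (X' : Over S) (x : X' ⟶ X) (h : X' ⟶ H), ∃ κ : X' ⟶ K, (x ≫ g)⁻¹ * (h ≫ u) * (x ≫ g) = κ ≫ j := by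
  obtain ⟨T, t, ht, hfp, hT⟩ := exists_closed_landLocus ((snd H G)⁻¹ * (fst H G ≫ u) * snd H G) j
    (fun T g => ⟨1, by simp [MonObj.comp_mul, GrpObj.comp_inv, MonObj.one_comp]⟩)
    (fun T g a b ⟨c, hc⟩ ⟨d, hd⟩ => ⟨c * d, by
      simp only [MonObj.comp_mul, GrpObj.comp_inv, lift_fst_assoc, lift_snd] at hc hd ⊢
      rw [MonObj.mul_comp, hc, hd, MonObj.mul_comp]
      group⟩)
  refine ⟨T, t, ht, hfp, fun X g => (hT X g).trans ?_⟩
  simp only [MonObj.comp_mul, GrpObj.comp_inv, lift_fst_assoc, lift_snd, eq_comm]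

variable [LocallyOfFiniteType G.hom] [QuasiSeparated G.hom]

/-- the centralizer of a smooth subgroup with connected fibres -/
theorem exists_closed_centralizer (u : H ⟶ G) [IsMonHom u] :
    ∃ (T : Over S) (t : T ⟶ G), IsClosedImmersion t.left ∧ LocallyOfFinitePresentation t.left ∧
      ∀ (X : Over S) (g : X ⟶ G), (∃ z : X ⟶ T, z ≫ t = g) ↔
        ∀ (X' : Over S) (x : X' ⟶ X) (h : X' ⟶ H), (x ≫ g) * (h ≫ u) = (h ≫ u) * (x ≫ g) := by
  let y : G ⟶ G ⊗ G := lift (𝟙 G) (𝟙 G)
  haveI : Mono y.left := inferInstanceAs (Mono (pullback.diagonal G.hom))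
  haveI : QuasiCompact y.left := inferInstanceAs (QuasiCompact (pullback.diagonal G.hom))
  haveI : LocallyOfFinitePresentation y.left :=
    FibrewiseCrit.locallyOfFinitePresentation_of_comp (pullback.diagonal G.hom) (pullback.fst G.hom G.hom)
      (by rw [pullback.diagonal_fst]; infer_instance) inferInstance
  let Φ : H ⊗ G ⟶ G ⊗ G := lift (conjMap u) (fst H G ≫ u)
  have hiff : ∀ (T : Over S) (g : T ⟶ G) (a : T ⟶ H),
      (∃ c : T ⟶ G, c ≫ y = lift a g ≫ Φ) ↔ g * (a ≫ u) = (a ≫ u) * g := by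
    intro T g a
    simp only [y, Φ, comp_lift, lift_conjMap, lift_fst_assoc, Category.comp_id]
    rw [← mul_inv_eq_iff_eq_mul]
    constructor
    · rintro ⟨c, hc⟩
      have h1 := congrArg (· ≫ fst G G) hc
      have h2 := congrArg (· ≫ snd G G) hc
      simp only [lift_fst, lift_snd] at h1 h2
      exact h1.symm.trans h2
    · exact fun h => ⟨a ≫ u, by rw [h]⟩
  obtain ⟨T, t, ht, hfp, hT⟩ := exists_closed_landLocus Φ y
    (fun T g => (hiff T g 1).mpr (by rw [MonObj.one_comp, _root_.mul_one, _root_.one_mul]))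
    (fun T g a b ha hb => (hiff T g _).mpr (by
      rw [MonObj.mul_comp]
      exact Commute.mul_right ((hiff T g a).mp ha) ((hiff T g b).mp hb)))
  exact ⟨T, t, ht, hfp, fun X g => (hT X g).trans
    (forall_congr' fun X' => forall_congr' fun x => forall_congr' fun h => hiff X' (x ≫ g) h)⟩

/-- the normalizer of a smooth subgroup with connected fibres -/
theorem exists_closed_normalizer (u : H ⟶ G) [IsMonHom u] [Mono u] [QuasiCompact H.hom] :
    ∃ (T : Over S) (t : T ⟶ G), IsClosedImmersion t.left ∧ LocallyOfFinitePresentation t.left ∧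
      ∀ (X : Over S) (g : X ⟶ G), (∃ z : X ⟶ T, z ≫ t = g) ↔
        ∀ (X' : Over S) (x : X' ⟶ X) (h : X' ⟶ H),
          (∃ h' : X' ⟶ H, (x ≫ g) * (h ≫ u) * (x ≫ g)⁻¹ = h' ≫ u) ∧
          (∃ h' : X' ⟶ H, (x ≫ g)⁻¹ * (h ≫ u) * (x ≫ g) = h' ≫ u) := by
  haveI : Mono u.left := inferInstanceAs (Mono ((Over.forget S).map u))
  haveI : QuasiCompact u.left := MorphismProperty.of_postcomp (W := @QuasiCompact) (W' := @QuasiSeparated) u.left G.hom
    inferInstance (by rw [Over.w u]; infer_instance)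
  haveI : LocallyOfFinitePresentation u.left :=
    FibrewiseCrit.locallyOfFinitePresentation_of_comp u.left G.hom (by rw [Over.w u]; infer_instance) inferInstance
  obtain ⟨T₁, t₁, h₁, f₁, hT₁⟩ := exists_closed_transporter_subgroup u u
  obtain ⟨T₂, t₂, h₂, f₂, hT₂⟩ := exists_closed_transporter_inv u u
  obtain ⟨T, t, ht, hfp, hT⟩ := exists_closed_inter t₁ t₂
  refine ⟨T, t, ht, hfp f₁ f₂, fun X g => ?_⟩
  rw [hT, hT₁, hT₂]
  exact ⟨fun h X' x a => ⟨h.1 X' x a, h.2 X' x a⟩, fun h => ⟨fun X' x a => (h X' x a).1, fun X' x a => (h X' x a).2⟩⟩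

end Groth.Agent.SubgroupWeil
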