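import Groth.Agent.SmoothWeil.Main
import Groth.Agent.S7458
import Groth.Prelude.Def_Red

/-!
A monomorphic subgroup containing a flat neighbourhood of the unit of a smooth group with connected fibres is
everything.
-/

universe u

open CategoryTheory Limits MonoidalCategory CartesianMonoidalCategory MonObj GrpObj AlgebraicGeometry
open Groth.Agent.EssFree

set_option backward.isDefEq.respectTransparency false
set_option linter.style.haveILetI false

noncomputable section

namespace Groth.Agent.SubgroupWeil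

variable {S : Scheme.{u}} {X Y : Over S} [GrpObj X]

/-- the points of `X` in `Y` are closed under products -/
def MulClosed (i : Y ⟶ X) : Prop :=
  ∀ (T : Over S) (a b : T ⟶ Y), ∃ c : T ⟶ Y, c ≫ i = (a ≫ i) * (b ≫ i)

/-- surjectivity of the product of two neighbourhoods of the unit -/
theorem surjective_mul_of_nhd [Smooth X.hom] [GeometricallyConnected X.hom] {Q : Over S} (α : Q ⟶ X)
    (hopen : IsOpen (Set.range α.left))
    (hone : ∀ p : S, (η[X]).left p ∈ Set.range α.left) :
    Surjective ((α ⊗ₘ α) ≫ μ[X]).left := by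
  refine ⟨fun x => ?_⟩
  let K := X.left.residueField x
  let xK : Spec (CommRingCat.of K) ⟶ X.left := X.left.fromSpecResidueField x
  let T : Over S := Over.mk (xK ≫ X.hom)
  let xT : T ⟶ X := Over.homMk xK
  haveI : IrreducibleSpace ↥(pullback X.hom (xK ≫ X.hom)) := SmoothWeil.irreducibleSpace_fibre (f := X.hom) _
  let P : Over S := X ⊗ T
  let b : P ⟶ X := fst X T
  let d : P ⟶ X := (snd X T ≫ xT) * (fst X T)⁻¹
  haveI : IrreducibleSpace ↥P.left := ‹IrreducibleSpace ↥(pullback X.hom (xK ≫ X.hom))›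
  have hmul : lift d b ≫ μ[X] = snd X T ≫ xT := by
    show d * b = _
    simp [d, b]
  let pt : ↥(Spec (CommRingCat.of K)) := IsLocalRing.closedPoint K
  let o : T ⟶ X := toUnit T ≫ η[X]
  have ho : o.left pt ∈ Set.range α.left := by
    show ((toUnit T).left ≫ (η[X]).left) pt ∈ _
    rw [Scheme.Hom.comp_apply]
    exact hone _
  let z₁ : T ⟶ P := lift o (𝟙 T)
  let z₂ : T ⟶ P := lift xT (𝟙 T)
  have h1 : b.left (z₁.left pt) ∈ Set.range α.left := by
    rw [← Scheme.Hom.comp_apply, ← Over.comp_left]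
    simpa [z₁, b] using ho
  have h2 : d.left (z₂.left pt) ∈ Set.range α.left := by
    rw [← Scheme.Hom.comp_apply, ← Over.comp_left]
    have : z₂ ≫ d = o := by
      simp [z₂, d, o, MonObj.comp_mul, GrpObj.comp_inv]
      rfl
    rw [this]
    exact ho
  obtain ⟨z, hzb, hzd⟩ := nonempty_preirreducible_inter (hopen.preimage b.left.continuous)
    (hopen.preimage d.left.continuous) ⟨z₁.left pt, h1⟩ ⟨z₂.left pt, h2⟩
  let w : ↥(X ⊗ X).left := (lift d b).left z
  have hw : w ∈ Set.range (α ⊗ₘ α).left := by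
    rw [Over.tensorHom_left]
    refine (Scheme.Pullback.range_map Q.hom Q.hom X.hom X.hom α.left α.left (𝟙 S) _ _).ge ⟨?_, ?_⟩
    · show (pullback.fst X.hom X.hom) ((lift d b).left z) ∈ Set.range α.left
      exact Eq.mpr (congrArg (· ∈ Set.range α.left) (congrArg (fun φ : P ⟶ X => φ.left z) (lift_fst d b))) hzd
    · show (pullback.snd X.hom X.hom) ((lift d b).left z) ∈ Set.range α.left
      exact Eq.mpr (congrArg (· ∈ Set.range α.left) (congrArg (fun φ : P ⟶ X => φ.left z) (lift_snd d b))) hzb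
  obtain ⟨q, hq⟩ := hw
  refine ⟨q, ?_⟩
  rw [Over.comp_left, Scheme.Hom.comp_apply, hq]
  show μ[X].left ((lift d b).left z) = x
  rw [← Scheme.Hom.comp_apply, ← Over.comp_left, hmul, Over.comp_left, Scheme.Hom.comp_apply]
  exact (X.left.range_fromSpecResidueField x).le ⟨_, rfl⟩

theorem flat_mul_of_flat [Flat X.hom] {Q : Over S} (α : Q ⟶ X) [Flat α.left] :
    Flat ((α ⊗ₘ α) ≫ μ[X]).left := by
  haveI : Flat μ[X].left := (S7458.result S X).2 ‹Flat X.hom›
  haveI : Flat (α ⊗ₘ α).left := by
    rw [Over.tensorHom_left]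
    exact MorphismProperty.pullbackMap (P := @Flat) ‹Flat α.left› ‹Flat α.left› (Over.w α).symm (Over.w α).symm
  rw [Over.comp_left]
  infer_instance

/-- a monomorphic subgroup containing the image of a flat neighbourhood of the unit is everything -/
theorem exists_section_of_nhd [Smooth X.hom] [GeometricallyConnected X.hom] (i : Y ⟶ X) [Mono i.left]
    [QuasiCompact i.left] (hmul : MulClosed i) {Q : Over S} (α : Q ⟶ X) [Flat α.left]
    (hopen : IsOpen (Set.range α.left)) (hone : ∀ p : S, (η[X]).left p ∈ Set.range α.left)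
    (ξ : Q ⟶ Y) (hξ : ξ ≫ i = α) : ∃ l : X.left ⟶ Y.left, l ≫ i.left = 𝟙 X.left := by
  let m : (Q ⊗ Q).left ⟶ X.left := ((α ⊗ₘ α) ≫ μ[X]).left
  haveI : Surjective m := surjective_mul_of_nhd α hopen hone
  haveI : Flat m := flat_mul_of_flat α
  obtain ⟨c, hc⟩ := hmul (Q ⊗ Q) (fst Q Q ≫ ξ) (snd Q Q ≫ ξ)
  have hc' : c.left ≫ i.left = m := by
    have : c ≫ i = (α ⊗ₘ α) ≫ μ[X] := by
      rw [hc, Category.assoc, Category.assoc, hξ]
      simp [Hom.mul_def]
    exact congrArg CommaMorphism.left this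
  haveI : IsIso (pullback.snd i.left m) :=
    ⟨pullback.lift c.left (𝟙 _) (by simp [hc']), by rw [← cancel_mono (pullback.snd i.left m)]; simp, by simp⟩
  haveI : IsIso i.left := FibrewiseCrit.isIso_of_pullback_snd i.left m
  exact ⟨inv i.left, IsIso.inv_hom_id _⟩

end Groth.Agent.SubgroupWeil
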