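import Groth.Agent.SubgroupWeil.Section

/-!
The Weil restriction of a monomorphic subgroup along a smooth group with connected fibres is a closed subscheme.
-/

universe u

open CategoryTheory Limits MonoidalCategory CartesianMonoidalCategory MonObj GrpObj AlgebraicGeometry
open Groth.Agent.EssFree
open scoped TensorProduct

set_option backward.isDefEq.respectTransparency false
set_option linter.style.haveILetI false

noncomputable section

namespace Groth.Agent.SubgroupWeil

/-- a chart of `Z ×_S Spec C` after base change of the affine base -/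
theorem exists_bc (P : MorphismProperty Scheme.{u}) [P.IsStableUnderBaseChange] {S Z : Scheme.{u}} {f : Z ⟶ S}
    {C K B : Type u} [CommRing C] [CommRing K] [CommRing B] [Algebra C B] [Algebra C K]
    (v : Spec (CommRingCat.of C) ⟶ S) (ρ : Spec (CommRingCat.of B) ⟶ pullback f v) (hP : P ρ)
    (hρ : ρ ≫ pullback.snd f v = Spec.map (CommRingCat.ofHom (algebraMap C B))) :
    ∃ ρ' : Spec (CommRingCat.of (K ⊗[C] B)) ⟶ pullback f (Spec.map (CommRingCat.ofHom (algebraMap C K)) ≫ v),
      P ρ' ∧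
      ρ' ≫ pullback.snd f _ = Spec.map (CommRingCat.ofHom (algebraMap K (K ⊗[C] B))) ∧
      ρ' ≫ pullback.fst f _ = Spec.map (CommRingCat.ofHom (Algebra.TensorProduct.includeRight : B →ₐ[C] K ⊗[C] B).toRingHom) ≫
        ρ ≫ pullback.fst f v := by
  let k := Spec.map (CommRingCat.ofHom (algebraMap C K))
  let iL := Spec.map (CommRingCat.ofHom (Algebra.TensorProduct.includeLeftRingHom : K →+* K ⊗[C] B))
  let iR := Spec.map (CommRingCat.ofHom (Algebra.TensorProduct.includeRight : B →ₐ[C] K ⊗[C] B).toRingHom)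
  have hsq : IsPullback iR iL (Spec.map (CommRingCat.ofHom (algebraMap C B))) k :=
    (isPullback_SpecMap_of_isPushout _ _ _ _ (CommRingCat.isPushout_tensorProduct C K B)).flip
  let ρ' : Spec (CommRingCat.of (K ⊗[C] B)) ⟶ pullback f (k ≫ v) :=
    pullback.lift (iR ≫ ρ ≫ pullback.fst f v) iL (by
      rw [Category.assoc, Category.assoc, pullback.condition, reassoc_of% hρ, hsq.w_assoc])
  let m : pullback f (k ≫ v) ⟶ pullback f v := pullback.map _ _ _ _ (𝟙 _) k (𝟙 _) (by simp) (by simp)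
  have hm : IsPullback m (pullback.snd f (k ≫ v)) (pullback.snd f v) k := by
    refine IsPullback.of_right ?_ (by simp [m]) (IsPullback.of_hasPullback f v)
    simpa [m] using IsPullback.of_hasPullback f (k ≫ v)
  have hρ' : IsPullback iR ρ' ρ m := by
    refine IsPullback.of_bot ?_ ?_ hm
    · rw [hρ, pullback.lift_snd]; exact hsq
    · apply pullback.hom_ext
      · simp [ρ', m]
      · simp [ρ', m, hρ, hsq.w]
  exact ⟨ρ', MorphismProperty.of_isPullback (P := P) hρ' hP, pullback.lift_snd _ _ _, pullback.lift_fst _ _ _⟩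

/-- a chart at the unit section gives the ideal of the condition -/
theorem exists_chart_ideal_subgroup {S : Scheme.{u}} {X Y : Over S} [GrpObj X] [Smooth X.hom]
    [GeometricallyConnected X.hom] (i : Y ⟶ X) [Mono i.left] [QuasiCompact i.left] (hmul : MulClosed i)
    {A E B : Type u} [CommRing A] [CommRing E] [CommRing B] [Algebra A E] [Algebra A B] [Algebra.Smooth A E]
    (φ : E →ₐ[A] B) (hφ : Function.Surjective φ) (hfg : (RingHom.ker φ).FG) (v : Spec (CommRingCat.of A) ⟶ S)
    (π : Spec (CommRingCat.of E) ⟶ pullback X.hom v) [Etale π]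
    (hπ : π ≫ pullback.snd X.hom v = Spec.map (CommRingCat.ofHom (algebraMap A E)))
    (ω : Spec (CommRingCat.of B) ⟶ pullback Y.hom v) [IsOpenImmersion ω]
    (hω2 : ω ≫ pullback.snd Y.hom v = Spec.map (CommRingCat.ofHom (algebraMap A B)))
    (hω : ω ≫ pullback.fst Y.hom v ≫ i.left = Spec.map (CommRingCat.ofHom φ.toRingHom) ≫ π ≫ pullback.fst X.hom v)
    (σ : B →ₐ[A] A)
    (hσ : Spec.map (CommRingCat.ofHom (σ.comp φ).toRingHom) ≫ π ≫ pullback.fst X.hom v = v ≫ (η[X]).left) :
    ∃ J : Ideal A, J.FG ∧ ∀ (C : Type u) [CommRing C] (k : A →+* C),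
      Full X.hom i.left (Spec.map (CommRingCat.ofHom k) ≫ v) ↔ J ≤ RingHom.ker k := by
  obtain ⟨J, hJ, hJfg⟩ := SmoothWeil.exists_inf_ideal (σ.comp φ) (RingHom.ker φ)
  refine ⟨J, (hJfg hfg).1, fun C _ k => ?_⟩
  letI := k.toAlgebra
  obtain ⟨πC, hπC, hπC2, hπC1⟩ := exists_bc @Etale (K := C) v π inferInstance hπ
  obtain ⟨ωC, hωC, hωC2, hωC1⟩ := exists_bc @IsOpenImmersion (K := C) v ω inferInstance hω2
  haveI := hπC
  haveI := hωC
  let φC : C ⊗[A] E →ₐ[C] C ⊗[A] B := Algebra.TensorProduct.map (AlgHom.id C C) φ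
  have hφC : Function.Surjective φC := LinearMap.lTensor_surjective C (g := φ.toLinearMap) hφ
  have hkC : RingHom.ker φC = (RingHom.ker φ).map (Algebra.TensorProduct.includeRight : E →ₐ[A] C ⊗[A] E) :=
    Algebra.TensorProduct.lTensor_ker (A := C) φ hφ
  have heC : (SmoothWeil.eC σ C).comp φC = SmoothWeil.eC (σ.comp φ) C := by
    refine Algebra.TensorProduct.ext (AlgHom.ext fun c => by simp [φC]) (AlgHom.ext fun e => ?_)
    simp [φC]
  show Full X.hom i.left (Spec.map (CommRingCat.ofHom (algebraMap A C)) ≫ v) ↔ J ≤ RingHom.ker (algebraMap A C)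
  refine (full_iff_pow i hmul φC hφC (by rw [hkC]; exact hfg.map _) _ πC hπC2 ωC ?_ (SmoothWeil.eC σ C) ?_).trans ?_
  · apply pullback.hom_ext
    · show ((ωC ≫ ((Over.pullback (Spec.map (CommRingCat.ofHom (algebraMap A C)) ≫ v)).map i).left) ≫ _) = _
      have e1 : ((Over.pullback (Spec.map (CommRingCat.ofHom (algebraMap A C)) ≫ v)).map i).left ≫ pullback.fst X.hom _ =
          pullback.fst Y.hom _ ≫ i.left := by simp
      rw [Category.assoc, e1, reassoc_of% hωC1, hω, Category.assoc, hπC1]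
      simp only [← Spec.map_comp_assoc, ← CommRingCat.ofHom_comp]
      congr 3
    · show ((ωC ≫ ((Over.pullback (Spec.map (CommRingCat.ofHom (algebraMap A C)) ≫ v)).map i).left) ≫ _) = _
      have e2 : ((Over.pullback (Spec.map (CommRingCat.ofHom (algebraMap A C)) ≫ v)).map i).left ≫ pullback.snd X.hom _ =
          pullback.snd Y.hom _ := by simp
      rw [Category.assoc, e2, hωC2, Category.assoc, show πC ≫ pullback.snd X.hom _ = _ from hπC2, ← Spec.map_comp,
        ← CommRingCat.ofHom_comp]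
      congr 2
      exact φC.comp_algebraMap.symm
  · rw [hπC1, Category.assoc, ← hσ]
    simp only [← Spec.map_comp_assoc, ← CommRingCat.ofHom_comp]
    congr 3
    exact RingHom.ext fun e => by simp [φC, RingHom.algebraMap_toAlgebra]
  · rw [heC, ← hJ C, hkC]
    constructor
    · exact fun h b hb m => h _ (Ideal.mem_map_of_mem _ hb) m
    · intro h y hy m
      refine (Ideal.map_le_iff_le_comap (f := (Algebra.TensorProduct.includeRight : E →ₐ[A] C ⊗[A] E))
        (K := RingHom.ker (SmoothWeil.eC (σ.comp φ) C) ^ m)).mpr (fun b hb => h b hb m) hy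

theorem exists_closed_full_subgroup {S : Scheme.{u}} {X Y : Over S} [GrpObj X] [Smooth X.hom]
    [GeometricallyConnected X.hom] (i : Y ⟶ X) [Mono i.left] [QuasiCompact i.left] [LocallyOfFinitePresentation i.left]
    (c : 𝟙_ (Over S) ⟶ Y) (hc : c ≫ i = η[X]) (hmul : MulClosed i) :
    ∃ (T : Scheme.{u}) (t : T ⟶ S), IsClosedImmersion t ∧ LocallyOfFinitePresentation t ∧
      ∀ {S' : Scheme.{u}} (g : S' ⟶ S), (∃ z : S' ⟶ T, z ≫ t = g) ↔ Full X.hom i.left g := by
  let cl : S ⟶ Y.left := c.left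
  have hcl1 : cl ≫ Y.hom = 𝟙 S := Over.w c
  have hcl2 : cl ≫ i.left = (η[X]).left := congrArg CommaMorphism.left hc
  obtain ⟨T, t, ht, hfp, hT⟩ := exists_closed_full_of_charts (f := X.hom) (j := i.left) True fun U x hx => by
    classical
    have hex : X.hom ((η[X]).left x) = x := by
      rw [← Scheme.Hom.comp_apply, Over.w η[X]]
      rfl
    obtain ⟨V, hV, hxV, hVU⟩ : ∃ V : X.left.Opens, IsAffineOpen V ∧ (η[X]).left x ∈ V ∧ V ≤ X.hom ⁻¹ᵁ U.1 := by
      obtain ⟨_, ⟨V, hV, rfl⟩, h1, h2⟩ := X.left.isBasis_affineOpens.exists_subset_of_mem_open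
        (show (η[X]).left x ∈ X.hom ⁻¹ᵁ U.1 by show X.hom _ ∈ U.1; rw [hex]; exact hx) (X.hom ⁻¹ᵁ U.1).isOpen
      exact ⟨V, hV, h1, h2⟩
    have hiV : i.left (cl x) ∈ V := by
      rw [← Scheme.Hom.comp_apply, hcl2]
      exact hxV
    obtain ⟨W, hW, hxW, hWV⟩ : ∃ W : Y.left.Opens, IsAffineOpen W ∧ cl x ∈ W ∧ W ≤ i.left ⁻¹ᵁ V := by
      obtain ⟨_, ⟨W, hW, rfl⟩, h1, h2⟩ := Y.left.isBasis_affineOpens.exists_subset_of_mem_open
        (show cl x ∈ i.left ⁻¹ᵁ V from hiV) (i.left ⁻¹ᵁ V).isOpen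
      exact ⟨W, hW, h1, h2⟩
    letI : Algebra Γ(S, U) Γ(X.left, V) := (X.hom.appLE U.1 V hVU).hom.toAlgebra
    letI : Algebra Γ(X.left, V) Γ(Y.left, W) := (i.left.appLE V W hWV).hom.toAlgebra
    letI : Algebra Γ(S, U) Γ(Y.left, W) :=
      ((algebraMap Γ(X.left, V) Γ(Y.left, W)).comp (algebraMap Γ(S, U) Γ(X.left, V))).toAlgebra
    haveI : IsScalarTower Γ(S, U) Γ(X.left, V) Γ(Y.left, W) := IsScalarTower.of_algebraMap_eq fun _ => rfl
    haveI : Algebra.Smooth Γ(S, U) Γ(X.left, V) := X.hom.smooth_appLE U.2 hV hVU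
    haveI : Algebra.FormallyUnramified Γ(X.left, V) Γ(Y.left, W) :=
      HasRingHomProperty.appLE @FormallyUnramified i.left inferInstance ⟨V, hV⟩ ⟨W, hW⟩ hWV
    haveI : Algebra.FinitePresentation Γ(X.left, V) Γ(Y.left, W) := i.left.finitePresentation_appLE hV hW hWV
    let Q := hW.primeIdealOf ⟨cl x, hxW⟩
    obtain ⟨f, hfQ, P, φ₀, hφ₀⟩ := Algebra.IsUnramifiedAt.exists_hasStandardEtaleSurjectionOn
      (R := Γ(X.left, V)) Q.asIdeal
    let E := P.Ring
    let B := Localization.Away f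
    letI : Algebra Γ(S, U) E := ((algebraMap Γ(X.left, V) E).comp (algebraMap Γ(S, U) Γ(X.left, V))).toAlgebra
    haveI : IsScalarTower Γ(S, U) Γ(X.left, V) E := IsScalarTower.of_algebraMap_eq fun _ => rfl
    haveI : Algebra.Etale Γ(X.left, V) E := inferInstance
    haveI : Algebra.Smooth Γ(S, U) E := Algebra.Smooth.comp Γ(S, U) Γ(X.left, V) E
    haveI : IsScalarTower Γ(S, U) Γ(X.left, V) B := IsScalarTower.of_algebraMap_eq fun _ => by
      rw [IsScalarTower.algebraMap_apply Γ(S, U) Γ(Y.left, W) B, IsScalarTower.algebraMap_apply Γ(X.left, V) Γ(Y.left, W) B]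
      rfl
    let φ : E →ₐ[Γ(S, U)] B := φ₀.restrictScalars Γ(S, U)
    have hkfg : (RingHom.ker φ).FG := by
      haveI : Algebra.FinitePresentation Γ(Y.left, W) B := IsLocalization.Away.finitePresentation f
      haveI : Algebra.FinitePresentation Γ(X.left, V) B := Algebra.FinitePresentation.trans _ Γ(Y.left, W) B
      exact Algebra.FinitePresentation.ker_fG_of_surjective φ₀ hφ₀
    let v₀ : Spec (CommRingCat.of Γ(S, U)) ⟶ S := U.2.fromSpec
    let p₀ : Spec (CommRingCat.of E) ⟶ X.left :=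
      Spec.map (CommRingCat.ofHom (algebraMap Γ(X.left, V) E)) ≫ hV.fromSpec
    let o₀ : Spec (CommRingCat.of B) ⟶ Y.left :=
      Spec.map (CommRingCat.ofHom (algebraMap Γ(Y.left, W) B)) ≫ hW.fromSpec
    haveI : Etale p₀ := by
      haveI : Etale (Spec.map (CommRingCat.ofHom (algebraMap Γ(X.left, V) E))) := by
        rw [HasRingHomProperty.Spec_iff (P := @Etale)]
        exact RingHom.etale_algebraMap.mpr inferInstance
      infer_instance
    haveI : IsOpenImmersion o₀ := by
      haveI : IsOpenImmersion (Spec.map (CommRingCat.ofHom (algebraMap Γ(Y.left, W) B))) :=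
        inferInstanceAs (IsOpenImmersion (Spec.map (CommRingCat.ofHom (algebraMap Γ(Y.left, W) (Localization.Away f)))))
      infer_instance
    have hVs : hV.fromSpec ≫ X.hom = Spec.map (CommRingCat.ofHom (algebraMap Γ(S, U) Γ(X.left, V))) ≫ v₀ :=
      (IsAffineOpen.SpecMap_appLE_fromSpec X.hom U.2 hV hVU).symm
    have hWV' : hW.fromSpec ≫ i.left = Spec.map (CommRingCat.ofHom (algebraMap Γ(X.left, V) Γ(Y.left, W))) ≫ hV.fromSpec :=
      (IsAffineOpen.SpecMap_appLE_fromSpec i.left hV hW hWV).symm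
    have hp₀ : p₀ ≫ X.hom = Spec.map (CommRingCat.ofHom (algebraMap Γ(S, U) E)) ≫ v₀ := by
      simp only [p₀, Category.assoc, hVs]
      rw [← Spec.map_comp_assoc]
      rfl
    have hoi : o₀ ≫ i.left = Spec.map (CommRingCat.ofHom φ.toRingHom) ≫ p₀ := by
      simp only [o₀, p₀, Category.assoc, hWV']
      rw [← Spec.map_comp_assoc, ← Spec.map_comp_assoc, ← CommRingCat.ofHom_comp, ← CommRingCat.ofHom_comp]
      congr 3
      ext r
      exact ((IsScalarTower.algebraMap_apply Γ(X.left, V) Γ(Y.left, W) B r).symm.trans (φ₀.commutes r).symm)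
    have ho₀ : o₀ ≫ Y.hom = Spec.map (CommRingCat.ofHom (algebraMap Γ(S, U) B)) ≫ v₀ := by
      rw [← Over.w i, reassoc_of% hoi, hp₀, ← Spec.map_comp_assoc, ← CommRingCat.ofHom_comp]
      congr 3
      exact φ.comp_algebraMap
    have hxo : cl x ∈ Set.range o₀ := by
      obtain ⟨q, hq⟩ := (PrimeSpectrum.localization_away_comap_range B f).ge (show Q ∈ PrimeSpectrum.basicOpen f from hfQ)
      refine ⟨q, ?_⟩
      show (Spec.map (CommRingCat.ofHom (algebraMap Γ(Y.left, W) B)) ≫ hW.fromSpec) q = _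
      rw [Scheme.Hom.comp_apply]
      refine (congrArg hW.fromSpec hq).trans ?_
      exact hW.fromSpec_primeIdealOf ⟨cl x, hxW⟩
    obtain ⟨a, haD, hax⟩ : ∃ a : Γ(S, U), S.basicOpen a ≤ cl ⁻¹ᵁ o₀.opensRange ∧ x ∈ S.basicOpen a := by
      obtain ⟨a, h1, h2⟩ := U.2.exists_basicOpen_le (V := cl ⁻¹ᵁ o₀.opensRange) ⟨x, hxo⟩ hx
      exact ⟨a, h1, h2⟩
    let A := Localization.Away a
    let v : Spec (CommRingCat.of A) ⟶ S := Spec.map (CommRingCat.ofHom (algebraMap Γ(S, U) A)) ≫ v₀
    have hvD : Set.range v = (S.basicOpen a : Set S) := by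
      rw [← U.2.fromSpec_image_basicOpen a]
      show Set.range (Spec.map (CommRingCat.ofHom (algebraMap Γ(S, U) A)) ≫ U.2.fromSpec) = _
      rw [Scheme.Hom.comp_base, TopCat.coe_comp, Set.range_comp]
      exact congrArg _ (PrimeSpectrum.localization_away_comap_range A a)
    let cl' : Spec (CommRingCat.of A) ⟶ Spec (CommRingCat.of B) := IsOpenImmersion.lift o₀ (v ≫ cl) (by
      rintro _ ⟨q, rfl⟩
      rw [Scheme.Hom.comp_apply]
      exact haD (hvD.le ⟨q, rfl⟩))
    have hcl' : cl' ≫ o₀ = v ≫ cl := IsOpenImmersion.lift_fac _ _ _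
    let τ : B →ₐ[Γ(S, U)] A :=
      { (Spec.preimage cl').hom with
        commutes' := fun r => by
          have h : Spec.map (CommRingCat.ofHom (algebraMap Γ(S, U) B) ≫ Spec.preimage cl') =
              Spec.map (CommRingCat.ofHom (algebraMap Γ(S, U) A)) := by
            rw [← cancel_mono v₀, Spec.map_comp, Spec.map_preimage, Category.assoc, ← ho₀, reassoc_of% hcl', hcl1,
              Category.comp_id]
          exact congrArg (fun g => g.hom r) (Spec.map_injective h) }
    have hτ : Spec.map (CommRingCat.ofHom τ.toRingHom) = cl' := Spec.map_preimage cl'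
    let φA : A ⊗[Γ(S, U)] E →ₐ[A] A ⊗[Γ(S, U)] B := Algebra.TensorProduct.map (AlgHom.id A A) φ
    let σA : A ⊗[Γ(S, U)] B →ₐ[A] A := Algebra.TensorProduct.lift (AlgHom.id A A) τ fun _ _ => Commute.all _ _
    have hφA : Function.Surjective φA := LinearMap.lTensor_surjective A (g := φ.toLinearMap) hφ₀
    have hkA : (RingHom.ker φA).FG := by
      have h : RingHom.ker φA = (RingHom.ker φ).map (Algebra.TensorProduct.includeRight : E →ₐ[Γ(S, U)] A ⊗[Γ(S, U)] E) :=
        Algebra.TensorProduct.lTensor_ker (A := A) φ hφ₀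
      rw [h]
      exact hkfg.map _
    let π₀ : Spec (CommRingCat.of E) ⟶ pullback X.hom v₀ :=
      pullback.lift p₀ (Spec.map (CommRingCat.ofHom (algebraMap Γ(S, U) E))) hp₀
    let ω₀ : Spec (CommRingCat.of B) ⟶ pullback Y.hom v₀ :=
      pullback.lift o₀ (Spec.map (CommRingCat.ofHom (algebraMap Γ(S, U) B))) ho₀
    haveI : IsOpenImmersion v₀ := inferInstanceAs (IsOpenImmersion U.2.fromSpec)
    have hπ₀ : Etale π₀ := MorphismProperty.of_postcomp (W := @Etale) (W' := @Etale) π₀ (pullback.fst _ _) inferInstance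
      (by rw [pullback.lift_fst]; infer_instance)
    have hω₀ : IsOpenImmersion ω₀ := MorphismProperty.of_postcomp (W := @IsOpenImmersion) (W' := @IsOpenImmersion) ω₀
      (pullback.fst _ _) inferInstance (by rw [pullback.lift_fst]; infer_instance)
    obtain ⟨πA, hπA, hπA2, hπA1⟩ := exists_bc @Etale (K := A) v₀ π₀ hπ₀ (pullback.lift_snd _ _ _)
    obtain ⟨ωA, hωA, hωA2, hωA1⟩ := exists_bc @IsOpenImmersion (K := A) v₀ ω₀ hω₀ (pullback.lift_snd _ _ _)
    haveI := hπA
    haveI := hωA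
    obtain ⟨J, hJfg, hJ⟩ := exists_chart_ideal_subgroup i hmul φA hφA hkA v πA hπA2 ωA hωA2
      (by
        rw [reassoc_of% hωA1, pullback.lift_fst_assoc, hoi, hπA1, pullback.lift_fst]
        simp only [← Spec.map_comp_assoc, ← CommRingCat.ofHom_comp]
        congr 3)
      σA (by
        rw [hπA1, pullback.lift_fst, ← hcl2, ← reassoc_of% hcl', hoi, ← hτ]
        simp only [← Spec.map_comp_assoc, ← CommRingCat.ofHom_comp]
        congr 3
        exact RingHom.ext fun e => by simp [φA, σA])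
    refine ⟨CommRingCat.of A, CommRingCat.ofHom (algebraMap Γ(S, U) A), ?_, ⟨S.basicOpen a, hax, hvD.ge⟩,
      J, fun _ => hJfg, fun C _ k => hJ C k⟩
    show RingHom.Flat (algebraMap Γ(S, U) A)
    exact RingHom.flat_algebraMap_iff.mpr (IsLocalization.flat A (Submonoid.powers a))
  exact ⟨T, t, ht, hfp trivial, fun g => hT g⟩

end Groth.Agent.SubgroupWeil
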